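import Groth.Agent.LocPres.Conv
import Groth.Agent.LFFrame.Basic
import Groth.Agent.HomShEval.Basic
import Groth.Agent.RankLocus.Basic
import Groth.Agent.ZClosLib.CohDescent
import Mathlib.RingTheory.Flat.FaithfullyFlat.Algebra
import Mathlib.AlgebraicGeometry.Morphisms.Flat

/-! Descent of bounds on the number of local generators. -/

set_option autoImplicit false
set_option backward.isDefEq.respectTransparency false
set_option backward.isDefEq.respectTransparency.types false
universe u

open CategoryTheory AlgebraicGeometry Opposite TopologicalSpace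
open Groth.Agent.PullStalk.Sky Groth.Agent.LFFrame
open scoped TensorProduct

noncomputable section

namespace Groth.Agent.GenDesc52

/-- an equality on a stalk with a combination of germs holds nearby -/
theorem exists_comb_nhd {X : Scheme.{u}} (M : X.Modules) {U T : X.Opens} {n : ℕ} (e : Fin n → Γ(M, U))
    (h : T ≤ U) (m : Γ(M, T)) (x : X) (hx : x ∈ T)
    (hm : germM M T x hx m ∈ Submodule.span (X.presheaf.stalk x) (Set.range fun i => germM M U x (h hx) (e i))) :
    ∃ (V : X.Opens) (hV : V ≤ T) (_ : x ∈ V) (a : Fin n → Γ(X, V)),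
      comb M e (hV.trans h) a = M.presheaf.map (homOfLE hV).op m := by
  obtain ⟨a, ha⟩ := (Submodule.mem_span_range_iff_exists_fun _).1 hm
  choose W hxW r hr using fun i => X.presheaf.exists_germ_eq (x := x) (a i)
  let W₀ : X.Opens := ⟨(T : Set X) ∩ ⋂ i, (W i : Set X),
    T.2.inter (isOpen_iInter_of_finite fun i => (W i).2)⟩
  have hxW₀ : x ∈ W₀ := ⟨hx, Set.mem_iInter.2 hxW⟩
  have hW₀T : W₀ ≤ T := Set.inter_subset_left
  have hW₀ : ∀ i, W₀ ≤ W i := fun i => Set.inter_subset_right.trans (Set.iInter_subset _ i)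
  let r' : Fin n → Γ(X, W₀) := fun i => X.presheaf.map (homOfLE (hW₀ i)).op (r i)
  have hr' : ∀ i, X.presheaf.germ W₀ x hxW₀ (r' i) = a i := fun i => by
    rw [← hr i]
    exact X.presheaf.germ_res_apply (homOfLE (hW₀ i)) x hxW₀ (r i)
  have h0 : germM M W₀ x hxW₀ (comb M e (hW₀T.trans h) r') =
      germM M W₀ x hxW₀ (M.presheaf.map (homOfLE hW₀T).op m) := by
    rw [germ_comb]
    simp only [hr']
    exact ha.trans (M.presheaf.germ_res_apply (homOfLE hW₀T) x hxW₀ m).symm
  obtain ⟨W₁, hxW₁, i₁, i₂, h1⟩ := M.presheaf.germ_eq x hxW₀ hxW₀ _ _ h0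
  refine ⟨W₁, i₁.le.trans hW₀T, hxW₁, fun i => X.presheaf.map (homOfLE i₁.le).op (r' i), ?_⟩
  rw [← res_comb M e (hW₀T.trans h) i₁.le, ← res_res M hW₀T i₁.le]
  exact h1

/-- sections spanning the stalks are locally generating -/
theorem nonempty_locGen {Y : Scheme.{u}} (F : Y.Modules) {W : Y.Opens} {n : ℕ} (s : Fin n → Γ(F, W))
    (hs : ∀ z (hz : z ∈ W), Submodule.span (Y.presheaf.stalk z) (Set.range fun i => germM F W z hz (s i)) = ⊤)
    {V : Y.Opens} (hy : V ≤ W) :
    ∃ G : LocPres.LocGen (C := Y.Opens) (J := Opens.grothendieckTopology Y) (O := Y.sheaf) F V, G.n = n := by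
  refine ⟨⟨n, fun i => F.presheaf.map (homOfLE hy).op (s i), fun {T} a m => ?_⟩, rfl⟩
  refine ⟨⟨fun V' g' => ∃ c : Fin n → Γ(Y, V'), comb F s (g'.le.trans (a.le.trans hy)) c =
      F.presheaf.map g'.op m, fun {V₁ V₂} g₁ ⟨c, hc⟩ h => ⟨fun i => Y.presheaf.map h.op (c i), ?_⟩⟩,
    fun x hx => ?_, fun V' g' ⟨c, hc⟩ => ⟨c, ?_⟩⟩
  · have h1 := res_comb F s (g₁.le.trans (a.le.trans hy)) h.le c
    rw [hc] at h1
    exact h1.symm.trans (res_res F g₁.le h.le m)
  · obtain ⟨V', hV', hxV', c, hc⟩ := exists_comb_nhd F s (a.le.trans hy) m x hx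
      (by rw [hs x ((a.le.trans hy) hx)]; trivial)
    exact ⟨V', homOfLE hV', ⟨c, hc⟩, hxV'⟩
  · refine Eq.trans (Finset.sum_congr rfl fun i _ => congrArg (c i • ·) ?_) hc
    exact res_res F hy (g'.le.trans a.le) (s i)

/-- local generators data with at most `r` generators -/
theorem exists_data {Y : Scheme.{u}} (F : Y.Modules) (r : ℕ)
    (H : ∀ y : Y, ∃ (W : Y.Opens) (_ : y ∈ W) (s : Fin r → Γ(F, W)), ∀ z (hz : z ∈ W),
      Submodule.span (Y.presheaf.stalk z) (Set.range fun i => germM F W z hz (s i)) = ⊤) :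
    ∃ σ : SheafOfModules.LocalGeneratorsData.{u} (R := Y.ringCatSheaf) F,
      ∀ k, Finite (σ.generators k).I ∧ Nat.card (σ.generators k).I ≤ r := by
  choose W hW s hs using H
  let q : SheafOfModules.LocalGeneratorsData.{u} (R := ModSite.ringSh (J := Opens.grothendieckTopology Y) Y.sheaf) F :=
    { I := {V : Y.Opens // ∃ G : LocPres.LocGen (C := Y.Opens) (J := Opens.grothendieckTopology Y) (O := Y.sheaf) F V,
        G.n = r}
      X := fun i => i.1
      coversTop := fun U x hx => by
        exact ⟨U ⊓ W x, homOfLE inf_le_left, (Sieve.mem_ofObjects_iff ..).mpr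
          ⟨⟨U ⊓ W x, nonempty_locGen F (s x) (hs x) inf_le_right⟩, ⟨𝟙 _⟩⟩, ⟨hx, hW x⟩⟩
      generators := fun i => i.2.choose.isGen.generatingSections }
  refine ⟨q, fun k => ?_⟩
  refine ⟨(show Finite (ULift.{u} (Fin k.2.choose.n)) from inferInstance), ?_⟩
  refine (show Nat.card (ULift.{u} (Fin k.2.choose.n)) ≤ r from ?_)
  simp [k.2.choose_spec]

/-- a module spanned by at most `r` elements has fibre rank at most `r` -/
theorem fibreRank_le_of_span {Y : Scheme.{u}} (F : Y.Modules) (y : Y) {I : Type u} [Finite I]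
    (g : I → F.presheaf.stalk y) (hg : Submodule.span (Y.presheaf.stalk y) (Set.range g) = ⊤) :
    Props.QRank.fibreRank F y ≤ Nat.card I := by
  let k := IsLocalRing.ResidueField (Y.presheaf.stalk y)
  have := Fintype.ofFinite I
  have h : Submodule.span k (Set.range fun i => (1 : k) ⊗ₜ[Y.presheaf.stalk y] g i) = ⊤ := by
    refine eq_top_iff.2 fun z hz => ?_
    clear hz
    induction z using TensorProduct.induction_on with
    | zero => exact zero_mem _
    | add a b ha hb => exact add_mem ha hb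
    | tmul a m =>
      obtain ⟨c, rfl⟩ := (Submodule.mem_span_range_iff_exists_fun _).1 (hg.ge (Submodule.mem_top (x := m)))
      rw [TensorProduct.tmul_sum]
      refine Submodule.sum_mem _ fun i _ => ?_
      rw [show a ⊗ₜ[Y.presheaf.stalk y] (c i • g i) = ((c i) • a) • ((1 : k) ⊗ₜ[Y.presheaf.stalk y] g i) by
        rw [TensorProduct.smul_tmul', smul_eq_mul, mul_one, TensorProduct.smul_tmul]]
      exact Submodule.smul_mem _ _ (Submodule.subset_span ⟨i, rfl⟩)
  unfold Props.QRank.fibreRank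
  rw [Nat.card_eq_fintype_card, ← finrank_top k, ← h]
  exact finrank_range_le_card (R := k) _

/-- near a point finitely many sections of `F` generate the finite type pullback -/
theorem exists_finset_nhd {X Y : Scheme.{u}} (f : X ⟶ Y) (F : Y.Modules) [F.IsQuasicoherent]
    (h : CohB1.IsFT ((Scheme.Modules.pullback f).obj F)) {W : Y.Opens} (hW : IsAffineOpen W)
    (x : X) (hxW : f x ∈ W) :
    ∃ (G : Finset Γ(F, W)) (V : X.Opens) (hV : V ≤ f ⁻¹ᵁ W), x ∈ V ∧ ∀ y (hy : y ∈ V),
      Submodule.span (X.presheaf.stalk y) ((fun s => germM ((Scheme.Modules.pullback f).obj F) (f ⁻¹ᵁ W) y (hV hy)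
        (unitSec f F W s)) '' G) = ⊤ := by
  classical
  let P := (Scheme.Modules.pullback f).obj F
  obtain ⟨U, hxU, n, t, ht⟩ := HomShEval.exists_span_germ P h x
  let := (f.stalkMap x).hom.toAlgebra
  let := PullStalk.Basic.moduleOver f F x
  have : IsScalarTower (Y.presheaf.stalk (f x)) (X.presheaf.stalk x) (P.presheaf.stalk x) :=
    IsScalarTower.of_algebraMap_smul fun _ _ => rfl
  have hbc := PullStalk.Basic.isBaseChange_unitStalk f F x
  let γ : Γ(F, W) → P.presheaf.stalk x := fun s => germM P (f ⁻¹ᵁ W) x hxW (unitSec f F W s)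
  have hγ : Submodule.span (X.presheaf.stalk x) (Set.range γ) = ⊤ := by
    refine eq_top_iff.2 fun z hz => ?_
    clear hz
    induction z using hbc.inductionOn with
    | zero => exact zero_mem _
    | smul s m hm => exact Submodule.smul_mem _ s hm
    | add a b ha hb => exact add_mem ha hb
    | tmul m =>
      have hm : m ∈ ZClosLib.CohDescent.germSpan F (Set.univ : Set Γ(F, W)) (f x) hxW := by
        rw [ZClosLib.CohDescent.germSpan_univ F hW (f x) hxW]; trivial
      induction hm using Submodule.span_induction with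
      | mem m hm =>
        obtain ⟨s, -, rfl⟩ := hm
        exact Submodule.subset_span ⟨s, (PullStalk.Basic.unitStalkHom_germ f F x W hxW s).symm⟩
      | zero => rw [map_zero]; exact zero_mem _
      | add a b _ _ ha hb => rw [map_add]; exact add_mem ha hb
      | smul a b _ hb =>
        rw [map_smul, ← algebraMap_smul (X.presheaf.stalk x) a]
        exact Submodule.smul_mem _ _ hb
  have hfin : ∀ i, ∃ σ : Finset Γ(F, W),
      germM P U x hxU (t i) ∈ Submodule.span (X.presheaf.stalk x) (γ '' σ) := fun i => by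
    obtain ⟨τ, hτ, hmem⟩ := Submodule.mem_span_finite_of_mem_span
      (show germM P U x hxU (t i) ∈ Submodule.span (X.presheaf.stalk x) (Set.range γ) by rw [hγ]; trivial)
    choose g hg using fun (a : τ) => hτ a.2
    refine ⟨Finset.univ.image g, Submodule.span_mono (fun a ha => ?_) hmem⟩
    exact ⟨g ⟨a, ha⟩, by simp, hg ⟨a, ha⟩⟩
  choose σ hσ using hfin
  let G := Finset.univ.biUnion σ
  let v : Fin G.card → Γ(P, f ⁻¹ᵁ W) := fun j => unitSec f F W (G.equivFin.symm j).1
  let T : X.Opens := U ⊓ f ⁻¹ᵁ W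
  have hxT : x ∈ T := ⟨hxU, hxW⟩
  have hnear : ∀ i, ∃ (V : X.Opens) (hV : V ≤ T) (_ : x ∈ V) (a : Fin G.card → Γ(X, V)),
      comb P v (hV.trans inf_le_right) a =
        P.presheaf.map (homOfLE hV).op (P.presheaf.map (homOfLE (inf_le_left : T ≤ U)).op (t i)) :=
    fun i => exists_comb_nhd P v inf_le_right _ x hxT (by
      refine Eq.mpr (congrArg (· ∈ _) (P.presheaf.germ_res_apply _ x hxT (t i))) ?_
      refine Submodule.span_mono ?_ (hσ i)
      rintro _ ⟨w, hw, rfl⟩
      obtain ⟨j, hj⟩ := G.equivFin.symm.surjective ⟨w, Finset.mem_biUnion.2 ⟨i, Finset.mem_univ i, hw⟩⟩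
      exact ⟨j, by simp only [v, hj]; rfl⟩)
  choose V hVT hxV a ha using hnear
  let U' : X.Opens := ⟨(T : Set X) ∩ ⋂ i, (V i : Set X), T.2.inter (isOpen_iInter_of_finite fun i => (V i).2)⟩
  refine ⟨G, U', fun y hy => hy.1.2, ⟨hxT, Set.mem_iInter.2 hxV⟩, fun y hy => ?_⟩
  refine eq_top_iff.2 ((ht y hy.1.1).ge.trans (Submodule.span_le.2 ?_))
  rintro _ ⟨i, rfl⟩
  have hxi : y ∈ V i := Set.mem_iInter.1 hy.2 i
  have h1 := congrArg (germM P (V i) y hxi) (ha i)
  rw [germ_comb, res_res] at h1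
  have h2 : germM P U y hy.1.1 (t i) = _ :=
      ((P.presheaf.germ_res_apply _ y hxi (t i)).symm.trans h1.symm)
  simp only [SetLike.mem_coe]
  rw [h2]
  exact Submodule.sum_mem _ fun j _ => Submodule.smul_mem _ _
    (Submodule.subset_span ⟨(G.equivFin.symm j).1, (G.equivFin.symm j).2, rfl⟩)

/-- spanning descends along a flat morphism, stalkwise -/
theorem germSpan_eq_top {X Y : Scheme.{u}} (f : X ⟶ Y) [Flat f] (F : Y.Modules) {W : Y.Opens}
    (G : Set Γ(F, W)) (x : X) (hx : f x ∈ W)
    (hspan : Submodule.span (X.presheaf.stalk x) ((fun s => germM ((Scheme.Modules.pullback f).obj F) (f ⁻¹ᵁ W) x hx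
        (unitSec f F W s)) '' G) = ⊤) :
    ZClosLib.CohDescent.germSpan F G (f x) hx = ⊤ := by
  let := (f.stalkMap x).hom.toAlgebra
  let := PullStalk.Basic.moduleOver f F x
  have : IsScalarTower (Y.presheaf.stalk (f x)) (X.presheaf.stalk x)
      (((Scheme.Modules.pullback f).obj F).presheaf.stalk x) :=
    IsScalarTower.of_algebraMap_smul fun _ _ => rfl
  have : Module.Flat (Y.presheaf.stalk (f x)) (X.presheaf.stalk x) := Flat.stalkMap f x
  have : IsLocalHom (algebraMap (Y.presheaf.stalk (f x)) (X.presheaf.stalk x)) :=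
    inferInstanceAs (IsLocalHom (f.stalkMap x).hom)
  have : Module.FaithfullyFlat (Y.presheaf.stalk (f x)) (X.presheaf.stalk x) :=
    Module.FaithfullyFlat.of_flat_of_isLocalHom
  refine eq_top_iff.2 fun u _ => ?_
  let S' := ZClosLib.CohDescent.germSpan F G (f x) hx
  refine (Submodule.Quotient.mk_eq_zero S').1 ?_
  let ψ := (TensorProduct.mk (Y.presheaf.stalk (f x)) (X.presheaf.stalk x) (F.presheaf.stalk (f x) ⧸ S') 1) ∘ₗ
    S'.mkQ
  have hbc' := PullStalk.Basic.isBaseChange_unitStalk f F x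
  have h0 : hbc'.lift ψ = 0 := LinearMap.ext_on hspan fun z hz => by
    obtain ⟨s, hs, rfl⟩ := hz
    rw [LinearMap.zero_apply]
    refine (congrArg _ (PullStalk.Basic.unitStalkHom_germ f F x W hx s).symm).trans ?_
    refine (hbc'.lift_eq ψ _).trans ?_
    have : germM F W (f x) hx s ∈ S' := Submodule.subset_span ⟨s, hs, rfl⟩
    simp [ψ, (Submodule.Quotient.mk_eq_zero S').2 this]
  refine Module.FaithfullyFlat.tensorProduct_mk_injective (A := Y.presheaf.stalk (f x))
    (B := X.presheaf.stalk x) (F.presheaf.stalk (f x) ⧸ S') ?_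
  rw [map_zero]
  exact (hbc'.lift_eq ψ u).symm.trans (LinearMap.congr_fun h0 _)

end Groth.Agent.GenDesc52

end
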